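import Groth.Agent.Lib.SkFlat5.Basic
import Groth.Agent.Lib.FlatOff.FibRing

/-!
# Serre's conditions of a flat tensor product, in both directions
-/

set_option autoImplicit false
set_option linter.style.haveILetI false
set_option linter.unusedSectionVars false
set_option backward.isDefEq.respectTransparency false

universe u

open TensorProduct IsLocalRing GrothLib.DepthAlong5

namespace GrothLib.SkFlat5

theorem le_coe_add {k : ℕ} {a b : WithBot ℕ∞} {c d : ℕ∞} (ha : 0 ≤ a) (hb : 0 ≤ b)
    (h1 : min (k : WithBot ℕ∞) a ≤ (c : WithBot ℕ∞)) (h2 : min (k : WithBot ℕ∞) b ≤ (d : WithBot ℕ∞)) :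
    min (k : WithBot ℕ∞) (a + b) ≤ ((c + d : ℕ∞) : WithBot ℕ∞) := by
  rw [WithBot.coe_add]
  refine le_trans ?_ (add_le_add h1 h2)
  rcases le_total (k : WithBot ℕ∞) a with h | h
  · rw [min_eq_left h]
    exact (min_le_left _ _).trans (le_add_of_nonneg_right (le_min (Nat.cast_nonneg k) hb))
  · rw [min_eq_right h]
    rcases le_total (k : WithBot ℕ∞) b with h' | h'
    · rw [min_eq_left h']
      exact (min_le_left _ _).trans (le_add_of_nonneg_left ha)
    · rw [min_eq_right h']
      exact min_le_right _ _

theorem supportDim_nonneg {R : Type u} [CommRing R] (M : Type u) [AddCommGroup M] [Module R M] [Nontrivial M] :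
    0 ≤ Module.supportDim R M := by
  have h := Module.supportDim_ne_bot_of_nontrivial R M
  cases hx : Module.supportDim R M with
  | bot => exact absurd hx h
  | coe x => exact WithBot.coe_le_coe.2 bot_le

theorem skCond_of_subsingleton {R : Type u} [CommRing R] {k : ℕ} (M : Type u) [AddCommGroup M] [Module R M]
    (q : Ideal R) [q.IsPrime] [Subsingleton (LocalizedModule q.primeCompl M)] : GrothLib.SkExt.SkCond k M q := by
  unfold GrothLib.SkExt.SkCond
  rw [GrothLib.Depth.depth_eq_top_of_subsingleton]
  refine (min_le_left _ _).trans ?_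
  exact WithBot.coe_le_coe.2 le_top

variable {A B : Type u} [CommRing A] [CommRing B] [IsNoetherianRing A] [IsNoetherianRing B] [Algebra A B]
  (E : Type u) [AddCommGroup E] [Module A E] [Module.Finite A E]
  (F : Type u) [AddCommGroup F] [Module B F] [Module A F] [IsScalarTower A B F] [Module.Finite B F]
  [Module.Flat A F]

theorem skCond_tensor {k : ℕ} (q : Ideal B) [q.IsPrime]
    (hfib : [Nontrivial (LocalizedModule q.primeCompl F)] → min (k : WithBot ℕ∞)
        (Module.supportDim (Localization.AtPrime q) (Fib A q F)) ≤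
      ((LocCoh.depth (Localization.AtPrime q) (Fib A q F) : ℕ∞) : WithBot ℕ∞))
    (hE : GrothLib.SkExt.SkCond k E (q.comap (algebraMap A B))) :
    GrothLib.SkExt.SkCond k (F ⊗[A] E) q := by
  rcases subsingleton_or_nontrivial (LocalizedModule q.primeCompl F) with h | h
  · haveI := subsingleton_tensor_left (A := A) E F q
    exact skCond_of_subsingleton _ q
  rcases subsingleton_or_nontrivial (LocalizedModule (q.comap (algebraMap A B)).primeCompl E) with h' | h'
  · haveI := subsingleton_tensor_right (A := A) E F q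
    exact skCond_of_subsingleton _ q
  obtain ⟨h1, h2, h3⟩ := dep_sdim_tensor (A := A) E F q
  unfold GrothLib.SkExt.SkCond at hE ⊢
  change min _ (sdim q (F ⊗[A] E)) ≤ ((dep q (F ⊗[A] E) : ℕ∞) : WithBot ℕ∞)
  rw [h1, h2]
  exact le_coe_add (supportDim_nonneg _) h3 hE hfib

/-- Over every prime under `q` lies a prime under `q` at which the fibre of `F` has dimension zero. -/
theorem exists_fibre_dim_zero (q : Ideal B) [q.IsPrime] (hq : Nontrivial (LocalizedModule q.primeCompl F))
    (p : Ideal A) [p.IsPrime] (hp : p ≤ q.comap (algebraMap A B)) :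
    ∃ (r : Ideal B) (_ : r.IsPrime), r ≤ q ∧ r.comap (algebraMap A B) = p ∧
      Nontrivial (LocalizedModule r.primeCompl F) ∧
      Module.supportDim (Localization.AtPrime r) (Fib A r F) = 0 := by
  let q₀ : PrimeSpectrum B := ⟨q, inferInstance⟩
  let T := F ⧸ (p.map (algebraMap A B) • (⊤ : Submodule B F))
  have hF : Module.annihilator B F ≤ q :=
    Module.mem_support_iff_of_finite.1 (show q₀ ∈ Module.support B F from Module.mem_support_iff.2 hq)
  have hpq : p.map (algebraMap A B) ≤ q := Ideal.map_le_iff_le_comap.2 hp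
  let J := p.map (algebraMap A B) ⊔ Module.annihilator B F
  obtain ⟨r, hr, hrq⟩ := Ideal.exists_minimalPrimes_le (I := J) (J := q) (sup_le hpq hF)
  haveI := hr.1.1
  have hsupp : Module.support B T = PrimeSpectrum.zeroLocus (J : Set B) := by
    rw [Module.support_quotient, Module.support_eq_zeroLocus, ← PrimeSpectrum.zeroLocus_sup, sup_comm]
  have hrT : (⟨r, inferInstance⟩ : PrimeSpectrum B) ∈ Module.support B T := by
    rw [hsupp]; exact hr.1.2
  have hassT : r ∈ associatedPrimes B T := by
    refine Module.associatedPrimes.minimalPrimes_annihilator_subset_associatedPrimes B T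
      ⟨⟨inferInstance, Module.mem_support_iff_of_finite.1 hrT⟩, fun s hs hsr => hr.2 ⟨hs.1, ?_⟩ hsr⟩
    have : (⟨s, hs.1⟩ : PrimeSpectrum B) ∈ Module.support B T := Module.mem_support_iff_of_finite.2 hs.2
    rw [hsupp] at this
    exact this
  have hcomap : r.comap (algebraMap A B) = p := by
    refine le_antisymm (fun a ha => ?_) (Ideal.map_le_iff_le_comap.1 (le_sup_left.trans hr.1.2))
    by_contra hap
    obtain ⟨-, t, ht⟩ := hassT
    have hreg : IsSMulRegular (A ⧸ p) a := by
      intro x y hxy
      obtain ⟨x, rfl⟩ := Ideal.Quotient.mk_surjective x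
      obtain ⟨y, rfl⟩ := Ideal.Quotient.mk_surjective y
      have : a * x - a * y ∈ p := (Submodule.Quotient.eq p).1 hxy
      rw [← mul_sub] at this
      exact Ideal.Quotient.eq.2 ((Ideal.IsPrime.mem_or_mem ‹_› this).resolve_left hap)
    have hinj : IsSMulRegular (F ⊗[A] (A ⧸ p)) a := by
      intro x y hxy
      refine Module.Flat.lTensor_preserves_injective_linearMap (M := F) (LinearMap.lsmul A (A ⧸ p) a) hreg ?_
      have : ∀ z : F ⊗[A] (A ⧸ p), (LinearMap.lsmul A (A ⧸ p) a).lTensor F z = a • z := fun z => by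
        induction z using TensorProduct.induction_on with
        | zero => simp
        | add u v hu hv => rw [map_add, hu, hv, smul_add]
        | tmul u v => simp [TensorProduct.tmul_smul]
      rw [this, this]; exact hxy
    obtain ⟨e⟩ := GrothLib.FlatOff.nonempty_tensor_quot_equiv (A := A) (B := B) (M := F) p
    obtain ⟨n, h0⟩ : ∃ n : ℕ, algebraMap A B (a ^ n) • t = 0 := by
      have : algebraMap A B a ∈ r := ha
      rw [ht] at this
      obtain ⟨n, hn⟩ := this
      exact ⟨n, by simpa using hn⟩
    obtain ⟨x, rfl⟩ := e.surjective t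
    have hx : algebraMap A B (a ^ n) • x = 0 := e.injective (by rw [map_smul, h0, map_zero])
    rw [algebraMap_smul] at hx
    have hx0 : x = 0 := (hinj.pow n) (hx.trans (smul_zero (a ^ n)).symm)
    subst hx0
    exact (Ideal.IsPrime.ne_top ‹r.IsPrime›) (ht.trans (by simp))
  haveI hrF : Nontrivial (LocalizedModule r.primeCompl F) :=
    Module.mem_support_iff.1 ((Module.mem_support_iff_of_finite (p := ⟨r, inferInstance⟩)).2 (le_sup_right.trans hr.1.2))
  refine ⟨r, inferInstance, hrq, hcomap, hrF, ?_⟩
  let e : Localization.AtPrime r ⊗[B] T ≃ₗ[Localization.AtPrime r] Fib A r F :=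
    (show _ from Classical.choice (GrothLib.FlatOff.nonempty_fibLocMod_equiv (A := A) F r) : _ ≃ₗ[Localization.AtPrime r] Fib A r F)
      |> fun e' => (LinearEquiv.baseChange B (Localization.AtPrime r) _ _ (Submodule.quotEquivOfEq _ _ (by rw [hcomap]))).trans e'
  rw [← Module.supportDim_eq_of_equiv (e := (LocalizedModule.equivTensorProduct r.primeCompl T).trans e)]
  refine (GrothLib.SkLift5.supportDim_localized_eq_height r hrT).trans ?_
  have : Order.height (⟨⟨r, inferInstance⟩, hrT⟩ : Module.support B T) = 0 := by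
    rw [Order.height_eq_zero]
    intro s hs
    refine hr.2 ⟨s.1.2, ?_⟩ hs
    exact hsupp.le s.2
  rw [this]
  rfl

/-- Descent of `(S_k)` to the base. -/
theorem skCond_descends {k : ℕ} (q : Ideal B) [q.IsPrime] (hq : Nontrivial (LocalizedModule q.primeCompl F))
    (h : ∀ (r : Ideal B) [r.IsPrime], r ≤ q → GrothLib.SkExt.SkCond k (F ⊗[A] E) r)
    (p : Ideal A) [p.IsPrime] (hp : p ≤ q.comap (algebraMap A B)) : GrothLib.SkExt.SkCond k E p := by
  rcases subsingleton_or_nontrivial (LocalizedModule p.primeCompl E) with h' | h'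
  · exact skCond_of_subsingleton _ p
  obtain ⟨r, hr, hrq, rfl, hrF, hdim⟩ := exists_fibre_dim_zero F q hq p hp
  haveI := hr
  haveI := hrF
  obtain ⟨h1, h2, h3⟩ := dep_sdim_tensor (A := A) E F r
  have hk := h r hrq
  unfold GrothLib.SkExt.SkCond at hk ⊢
  change min _ (sdim r (F ⊗[A] E)) ≤ ((dep r (F ⊗[A] E) : ℕ∞) : WithBot ℕ∞) at hk
  rw [h1, h2, hdim, add_zero] at hk
  refine hk.trans (le_of_eq ?_)
  have hd : LocCoh.depth (Localization.AtPrime r) (Fib A r F) = 0 := by
    haveI := GrothLib.Depth.isNoetherian_atPrime r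
    haveI := finite_localized (M := F) r
    haveI hne : Nontrivial (Fib A r F) := not_subsingleton_iff_nontrivial.1 fun _ => by
      rw [Module.supportDim_eq_bot_of_subsingleton] at hdim
      exact WithBot.bot_ne_zero hdim
    have := (GrothLib.Depth.depth_le_supportDim _ (Fib A r F)).trans hdim.le
    exact le_bot_iff.1 (WithBot.coe_le_coe.1 this)
  rw [hd, add_zero]

end GrothLib.SkFlat5

namespace GrothLib.SkFlat5

/-- `(S_k)` of a finite module over a local ring, read at the closed point. -/
theorem le_depth_of_hasSk {R : Type u} [CommRing R] [IsNoetherianRing R] [IsLocalRing R] {k : ℕ}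
    (M : Type u) [AddCommGroup M] [Module R M] [Module.Finite R M] (h : LocCoh.HasSk k R M) :
    min (k : WithBot ℕ∞) (Module.supportDim R M) ≤ ((LocCoh.depth R M : ℕ∞) : WithBot ℕ∞) := by
  let m := maximalIdeal R
  let T := Localization.AtPrime m
  haveI : IsNoetherianRing T := IsLocalization.isNoetherianRing m.primeCompl _ inferInstance
  haveI : Module.Finite T (LocalizedModule m.primeCompl M) := finite_localized m
  have hu : m.primeCompl ≤ IsUnit.submonoid R := fun x hx => IsLocalRing.notMem_maximalIdeal.1 hx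
  let σ : R ≃ₐ[R] T := IsLocalization.atUnits R m.primeCompl hu
  let ℓ := LocalizedModule.mkLinearMap m.primeCompl M
  have hℓ : Function.Bijective ℓ := by
    constructor
    · intro x y hxy
      obtain ⟨c, hc⟩ := IsLocalizedModule.exists_of_eq (S := m.primeCompl) (f := ℓ) hxy
      exact (hu c.2).smul_left_cancel.1 hc
    · intro z
      obtain ⟨⟨x, s⟩, hz⟩ := IsLocalizedModule.surj m.primeCompl ℓ z
      obtain ⟨u, hus⟩ := hu s.2
      refine ⟨(u⁻¹ : Rˣ) • x, ?_⟩
      rw [Units.smul_def, map_smul, ← hz, Submonoid.smul_def, smul_smul, ← hus, Units.inv_mul, one_smul]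
  let e : M ≃ₗ[R] LocalizedModule m.primeCompl M := LinearEquiv.ofBijective ℓ hℓ
  have he : ∀ (r : R) (x : M), e (r • x) = σ r • e x := fun r x => by
    rw [map_smul, ← algebraMap_smul T r (e x), ← σ.commutes r]
    rfl
  rw [GrothLib.SkExt.supportDim_congr_semilinear σ.toRingEquiv e.toAddEquiv he,
    GrothLib.SkExt.depth_congr_semilinear σ.toRingEquiv e.toAddEquiv he]
  exact h m

variable {A B : Type u} [CommRing A] [CommRing B] [IsNoetherianRing B] [Algebra A B]
  (F : Type u) [AddCommGroup F] [Module B F] [Module.Finite B F]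

theorem le_depth_fib_of_hasSk {k : ℕ} (q : Ideal B) [q.IsPrime]
    (h : LocCoh.HasSk k (EGA4.FibLocRing A B q) (EGA4.FibLocMod A B q F)) :
    min (k : WithBot ℕ∞) (Module.supportDim (Localization.AtPrime q) (Fib A q F)) ≤
      ((LocCoh.depth (Localization.AtPrime q) (Fib A q F) : ℕ∞) : WithBot ℕ∞) := by
  haveI := GrothLib.Depth.isNoetherian_atPrime q
  haveI := finite_localized (M := F) q
  haveI := GrothLib.FlatOff.isLocalRing_fibLocRing (A := A) q
  haveI : Module.Finite (Localization.AtPrime q) (Fib A q F) := inferInstance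
  haveI : Module.Finite (EGA4.FibLocRing A B q) (EGA4.FibLocMod A B q F) :=
    Module.Finite.of_restrictScalars_finite (Localization.AtPrime q) _ _
  rw [GrothLib.Faltings.depth_eq_of_surjective (A' := EGA4.FibLocRing A B q) Ideal.Quotient.mk_surjective,
    GrothLib.CMBasics.supportDim_restrictScalars (Localization.AtPrime q) (EGA4.FibLocRing A B q)]
  exact le_depth_of_hasSk _ h

end GrothLib.SkFlat5
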