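import Groth.Agent.Lib.SkExt.Basic
import Groth.Agent.Lib.DepthFlat.Basic
import Groth.Agent.Lib.DepthAlong5.Basic
import Groth.Agent.Lib.FlatModel.Descent
import Groth.Agent.Lib.Faltings.Transfer
import Groth.Agent.Lib.Flatness.Criterion
import Groth.Agent.S2598

/-!
# Serre's conditions of a tensor product with a flat module
-/

set_option autoImplicit false
set_option linter.style.haveILetI false
set_option backward.isDefEq.respectTransparency false

universe u

open TensorProduct IsLocalRing GrothLib.DepthAlong5

namespace GrothLib.SkFlat5

variable {A B : Type u} [CommRing A] [CommRing B] [IsNoetherianRing A] [IsNoetherianRing B] [Algebra A B]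
  (E : Type u) [AddCommGroup E] [Module A E] [Module.Finite A E]
  (F : Type u) [AddCommGroup F] [Module B F] [Module A F] [IsScalarTower A B F] [Module.Finite B F]

/-- The fibre of `F` at `q`, over the local ring of `B` at `q`. -/
abbrev Fib (A : Type u) {B : Type u} [CommRing A] [CommRing B] [Algebra A B] (q : Ideal B) [q.IsPrime]
    (F : Type u) [AddCommGroup F] [Module B F] : Type u :=
  EGA4.FibLocMod A B q F

variable [Module.Flat A F]

/-- Depth and dimension of a flat tensor product at a prime. -/
theorem dep_sdim_tensor (q : Ideal B) [q.IsPrime] [Nontrivial (LocalizedModule q.primeCompl F)]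
    [Nontrivial (LocalizedModule (q.comap (algebraMap A B)).primeCompl E)] :
    dep q (F ⊗[A] E) = dep (q.comap (algebraMap A B)) E + LocCoh.depth (Localization.AtPrime q) (Fib A q F) ∧
      sdim q (F ⊗[A] E) = sdim (q.comap (algebraMap A B)) E +
        Module.supportDim (Localization.AtPrime q) (Fib A q F) ∧
      0 ≤ Module.supportDim (Localization.AtPrime q) (Fib A q F) := by
  let p := q.comap (algebraMap A B)
  let R := Localization.AtPrime p
  let S := Localization.AtPrime q
  let N := LocalizedModule q.primeCompl F
  let M := LocalizedModule p.primeCompl E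
  haveI : IsNoetherianRing R := IsLocalization.isNoetherianRing p.primeCompl _ inferInstance
  haveI : IsNoetherianRing S := IsLocalization.isNoetherianRing q.primeCompl _ inferInstance
  letI : Algebra R S := (Localization.localRingHom p q (algebraMap A B) rfl).toAlgebra
  haveI : IsScalarTower A R S := IsScalarTower.of_algebraMap_eq fun a => by
    show algebraMap A S a = Localization.localRingHom p q (algebraMap A B) rfl (algebraMap A R a)
    rw [Localization.localRingHom_to_map]
    exact IsScalarTower.algebraMap_apply A B S a
  haveI : IsLocalHom (algebraMap R S) := Localization.isLocalHom_localRingHom p q (algebraMap A B) rfl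
  haveI : IsScalarTower A S N := IsScalarTower.of_algebraMap_smul fun a x => by
    rw [IsScalarTower.algebraMap_apply A B S, algebraMap_smul, algebraMap_smul]
  letI : Module R N := Module.compHom N (algebraMap R S)
  haveI : IsScalarTower R S N := IsScalarTower.of_algebraMap_smul fun _ _ => rfl
  haveI : IsScalarTower A R N := IsScalarTower.of_algebraMap_smul fun a x => by
    show algebraMap R S (algebraMap A R a) • x = a • x
    rw [← IsScalarTower.algebraMap_apply, algebraMap_smul]
  haveI : Module.Flat A N := GrothLib.FlatModel.flat_localizedModule q.primeCompl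
  haveI : Module.Flat R N := (Module.flat_iff_of_isLocalization R p.primeCompl N).2 inferInstance
  haveI : Module.Finite S N := finite_localized q
  haveI : Module.Finite R M := finite_localized p
  haveI : Module.Finite B (F ⊗[A] E) := GrothLib.Flatness.finite_tensor (R := A) (S := B) (M := F) E
  haveI : Module.Finite S (LocalizedModule q.primeCompl (F ⊗[A] E)) := finite_localized q
  haveI : Module.Finite S (N ⊗[R] M) := GrothLib.Flatness.finite_tensor (R := R) (S := S) (M := N) M
  let e₁ : LocalizedModule q.primeCompl (F ⊗[A] E) ≃ₗ[S] N ⊗[A] E :=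
    (LocalizedModule.equivTensorProduct q.primeCompl (F ⊗[A] E)).trans
      ((AlgebraTensorModule.assoc A B S S F E).symm.trans
        (AlgebraTensorModule.congr (LocalizedModule.equivTensorProduct q.primeCompl F).symm (LinearEquiv.refl A E)))
  let e : LocalizedModule q.primeCompl (F ⊗[A] E) ≃ₗ[S] N ⊗[R] M :=
    e₁.trans ((AlgebraTensorModule.cancelBaseChange A R S N E).symm.trans
      (AlgebraTensorModule.congr (LinearEquiv.refl S N) (LocalizedModule.equivTensorProduct p.primeCompl E).symm))
  have hI : (q.comap (algebraMap A B)).map (algebraMap A S) = (maximalIdeal R).map (algebraMap R S) := by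
    rw [← Localization.AtPrime.map_eq_maximalIdeal (I := p), Ideal.map_map, ← IsScalarTower.algebraMap_eq]
  let f : Fib A q F ≃ₗ[S] EGA4.FibMod R S N := Submodule.quotEquivOfEq _ _ (by rw [hI])
  haveI : Module.Finite S (Fib A q F) := inferInstance
  haveI : Nontrivial (EGA4.FibMod R S N) := by
    refine Submodule.Quotient.nontrivial_iff.2 fun h => ?_
    have := Submodule.eq_bot_of_le_smul_of_le_jacobson_bot (EGA4.mB R S) (⊤ : Submodule S N)
      Module.Finite.fg_top h.ge ((map_maximalIdeal_le (algebraMap R S)).trans
        (IsLocalRing.jacobson_eq_maximalIdeal ⊥ bot_ne_top).ge)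
    exact top_ne_bot this
  refine ⟨?_, ?_, ?_⟩
  · refine (GrothLib.Depth.idealDepth_eq_of_equiv _ e).trans ?_
    refine (GrothLib.DepthFlat.depth_tensor (R := R) (S := S) (M := M) (N := N)).trans ?_
    exact congrArg (dep p E + ·) (GrothLib.Depth.idealDepth_eq_of_equiv _ f).symm
  · refine (Module.supportDim_eq_of_equiv e).trans ?_
    refine (Groth.Agent.S2598.result R S M N).trans ?_
    rw [← Module.supportDim_eq_of_equiv f]
  · rw [Module.supportDim_eq_of_equiv f]
    have h := Module.supportDim_ne_bot_of_nontrivial S (EGA4.FibMod R S N)
    cases hx : Module.supportDim S (EGA4.FibMod R S N) with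
    | bot => exact absurd hx h
    | coe x => exact WithBot.coe_le_coe.2 bot_le

theorem subsingleton_tensor_left (q : Ideal B) [q.IsPrime] [Subsingleton (LocalizedModule q.primeCompl F)] :
    Subsingleton (LocalizedModule q.primeCompl (F ⊗[A] E)) := by
  obtain ⟨f, hf, hf0⟩ := exists_smul_eq_zero (M := F) q
  refine subsingleton_of_smul_eq_zero q f hf fun z => ?_
  induction z using TensorProduct.induction_on with
  | zero => exact smul_zero _
  | add a b ha hb => rw [smul_add, ha, hb, add_zero]
  | tmul a b => rw [TensorProduct.smul_tmul', hf0, zero_tmul]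

theorem subsingleton_tensor_right (q : Ideal B) [q.IsPrime]
    [Subsingleton (LocalizedModule (q.comap (algebraMap A B)).primeCompl E)] :
    Subsingleton (LocalizedModule q.primeCompl (F ⊗[A] E)) := by
  obtain ⟨f, hf, hf0⟩ := exists_smul_eq_zero (M := E) (q.comap (algebraMap A B))
  refine subsingleton_of_smul_eq_zero q (algebraMap A B f) hf fun z => ?_
  induction z using TensorProduct.induction_on with
  | zero => exact smul_zero _
  | add a b ha hb => rw [smul_add, ha, hb, add_zero]
  | tmul a b => rw [TensorProduct.smul_tmul', algebraMap_smul, TensorProduct.smul_tmul, hf0, tmul_zero]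

end GrothLib.SkFlat5
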